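import Cfsg.Agent.KnownB.Proj.Symp.Hom

/-! Images of symplectic transvections in `PSp_{2m}(q)`, `q` odd: invariance under automorphisms. -/

set_option autoImplicit false

namespace Cfsg.Agent.KnownB.Proj.Symp

open Matrix

universe u

variable {m : ℕ} {F : Type u} [Field F]

local notation "Vm" => (Fin m ⊕ Fin m → F)
local notation "Mm" => Matrix (Fin m ⊕ Fin m) (Fin m ⊕ Fin m) F
local notation "Spm" => Matrix.symplecticGroup (Fin m) F
local notation "B" => Cfsg.sympForm m F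

theorem sB (u v : Vm) : Forms.sympB m F u v = B u v := Forms.sympB_apply u v

theorem B_self (v : Vm) : B v v = 0 := by rw [← sB]; exact Forms.sympB_isAlt v

theorem B_swap (u v : Vm) : B u v = -B v u := by
  simp only [Forms.sympForm_eq, ← Finset.sum_neg_distrib]
  exact Finset.sum_congr rfl fun i _ => by ring

theorem B_add_left (u u' v : Vm) : B (u + u') v = B u v + B u' v := by
  simp only [← sB, map_add, LinearMap.add_apply]
theorem B_add_right (u v v' : Vm) : B u (v + v') = B u v + B u v' := by simp only [← sB, map_add]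
theorem B_sub_left (u u' v : Vm) : B (u - u') v = B u v - B u' v := by
  simp only [← sB, map_sub, LinearMap.sub_apply]
theorem B_sub_right (u v v' : Vm) : B u (v - v') = B u v - B u v' := by simp only [← sB, map_sub]
theorem B_smul_left (c : F) (u v : Vm) : B (c • u) v = c * B u v := by
  simp only [← sB, map_smul, LinearMap.smul_apply, smul_eq_mul]
theorem B_smul_right (c : F) (u v : Vm) : B u (c • v) = c * B u v := by
  simp only [← sB, map_smul, smul_eq_mul]

theorem B_zero_left (v : Vm) : B 0 v = 0 := by rw [← sB, map_zero, LinearMap.zero_apply]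
theorem B_zero_right (v : Vm) : B v 0 = 0 := by rw [← sB, map_zero]

theorem exists_B_ne {v : Vm} (hv : v ≠ 0) : ∃ x, B x v ≠ 0 := by
  by_contra h
  push Not at h
  exact hv (Forms.sympB_nondegenerate.2 v fun x => by rw [sB]; exact h x)

theorem exists_B_one {v : Vm} (hv : v ≠ 0) : ∃ x, B x v = 1 := by
  obtain ⟨x, hx⟩ := exists_B_ne hv
  exact ⟨(B x v)⁻¹ • x, by rw [B_smul_left, inv_mul_cancel₀ hx]⟩

theorem sp_B (s : Spm) (u v : Vm) : B (s.1 *ᵥ u) (s.1 *ᵥ v) = B u v :=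
  Forms.mem_symplectic_iff.mp s.2 u v

/-- The transvection `x ↦ x + c B(x,v) v`. -/
def T (v : Vm) (c : F) : Spm :=
  ⟨Cfsg.sympTransvection m v c, Forms.mem_symplectic_iff.mpr fun x y => by
    rw [Forms.sympTransvection_mulVec, Forms.sympTransvection_mulVec]
    simp only [B_add_left, B_add_right, B_smul_left, B_smul_right, B_self, mul_zero, add_zero]
    rw [B_swap v y]
    ring⟩

theorem T_mulVec (v : Vm) (c : F) (x : Vm) : (T v c).1 *ᵥ x = x + (c * B x v) • v :=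
  Forms.sympTransvection_mulVec v c x

theorem sp_ext {s t : Spm} (h : ∀ x, s.1 *ᵥ x = t.1 *ᵥ x) : s = t :=
  Subtype.ext (Forms.matrix_ext_mulVec h)

theorem sp_mul_mulVec (s t : Spm) (x : Vm) : (s * t).1 *ᵥ x = s.1 *ᵥ (t.1 *ᵥ x) :=
  (Matrix.mulVec_mulVec x s.1 t.1).symm

theorem sp_one_mulVec (x : Vm) : (1 : Spm).1 *ᵥ x = x := Matrix.one_mulVec x

theorem sp_inv_mulVec (s : Spm) (x : Vm) : (s⁻¹ : Spm).1 *ᵥ (s.1 *ᵥ x) = x := by
  rw [← sp_mul_mulVec, inv_mul_cancel, sp_one_mulVec]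

theorem sp_mulVec_inv (s : Spm) (x : Vm) : s.1 *ᵥ ((s⁻¹ : Spm).1 *ᵥ x) = x := by
  rw [← sp_mul_mulVec, mul_inv_cancel, sp_one_mulVec]

theorem sp_mulVec_ne (s : Spm) {x : Vm} (hx : x ≠ 0) : s.1 *ᵥ x ≠ 0 := fun h => hx (by
  rw [← sp_inv_mulVec s x, h, Matrix.mulVec_zero])

theorem T_zero (v : Vm) : T v 0 = 1 := sp_ext fun x => by
  rw [T_mulVec, sp_one_mulVec, zero_mul, zero_smul, add_zero]

theorem T_add (v : Vm) (a b : F) : T v a * T v b = T v (a + b) := sp_ext fun x => by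
  rw [sp_mul_mulVec, T_mulVec, T_mulVec, T_mulVec, B_add_left, B_smul_left, B_self]
  module

theorem T_pow (v : Vm) (a : F) (k : ℕ) : T v a ^ k = T v (k * a) := by
  induction k with
  | zero => simp [T_zero]
  | succ k ih => rw [pow_succ, ih, T_add, Nat.cast_succ, add_mul, one_mul]

theorem T_smul (v : Vm) (k a : F) : T (k • v) a = T v (a * k ^ 2) := sp_ext fun x => by
  rw [T_mulVec, T_mulVec, B_smul_right, smul_smul]
  congr 2
  ring

theorem T_pow_char (p : ℕ) [CharP F p] (v : Vm) (a : F) : T v a ^ p = 1 := by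
  rw [T_pow, CharP.cast_eq_zero, zero_mul, T_zero]

theorem T_conj (s : Spm) (v : Vm) (a : F) : s * T v a * s⁻¹ = T (s.1 *ᵥ v) a := sp_ext fun x => by
  rw [sp_mul_mulVec, sp_mul_mulVec, T_mulVec, T_mulVec, Matrix.mulVec_add, Matrix.mulVec_smul,
    sp_mulVec_inv]
  congr 3
  conv_rhs => rw [← sp_mulVec_inv s x, sp_B]

theorem T_eq_T {v w : Vm} (hv : v ≠ 0) {a b : F} (ha : a ≠ 0) (h : T v a = T w b) :
    ∃ k : F, k ≠ 0 ∧ v = k • w := by
  obtain ⟨x, hx⟩ := exists_B_one hv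
  have h1 := congrArg (fun s : Spm => s.1 *ᵥ x) h
  simp only [T_mulVec, hx, mul_one, add_left_cancel_iff] at h1
  refine ⟨a⁻¹ * (b * B x w), ?_, ?_⟩
  · intro h0
    apply hv
    have : v = (a⁻¹ * (b * B x w)) • w := by rw [mul_smul, ← h1, inv_smul_smul₀ ha]
    rw [this, h0, zero_smul]
  · rw [mul_smul, ← h1, inv_smul_smul₀ ha]

theorem T_ne_one {v : Vm} (hv : v ≠ 0) {a : F} (ha : a ≠ 0) : T v a ≠ 1 := by
  intro h
  obtain ⟨x, hx⟩ := exists_B_one hv
  have h1 := congrArg (fun s : Spm => s.1 *ᵥ x) h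
  simp only [T_mulVec, hx, mul_one, sp_one_mulVec, add_eq_left] at h1
  exact hv ((smul_eq_zero.mp h1).resolve_left ha)

theorem center_sq {z : Spm} (hz : z ∈ Subgroup.center Spm) : z * z = 1 := by
  refine sp_ext fun x => ?_
  by_cases hx : x = 0
  · rw [hx, Matrix.mulVec_zero, Matrix.mulVec_zero]
  have h := T_conj z x 1
  rw [show z * T x 1 * z⁻¹ = T x 1 by
    rw [← Subgroup.mem_center_iff.mp hz (T x 1), mul_inv_cancel_right]] at h
  obtain ⟨k, hk, hkx⟩ := T_eq_T hx one_ne_zero h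
  have h' : T (z.1 *ᵥ x) (1 * k ^ 2) = T (z.1 *ᵥ x) 1 := by rw [← T_smul, ← hkx]; exact h
  obtain ⟨y, hy⟩ := exists_B_one (sp_mulVec_ne z hx)
  have h1 := congrArg (fun s : Spm => s.1 *ᵥ y) h'
  simp only [T_mulVec, hy, mul_one, one_mul, add_left_cancel_iff] at h1
  have hsq : k ^ 2 = 1 := smul_left_injective F (sp_mulVec_ne z hx) h1
  rw [sp_mul_mulVec, sp_one_mulVec]
  calc z.1 *ᵥ (z.1 *ᵥ x) = z.1 *ᵥ (k⁻¹ • x) := by
        rw [show z.1 *ᵥ x = k⁻¹ • x from (eq_inv_smul_iff₀ hk).mpr hkx.symm]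
    _ = x := by
        rw [Matrix.mulVec_smul, show z.1 *ᵥ x = k⁻¹ • x from (eq_inv_smul_iff₀ hk).mpr hkx.symm,
          smul_smul, ← mul_inv, ← sq, hsq, inv_one, one_smul]

theorem pspMk_eq_iff (s t : Spm) :
    (QuotientGroup.mk s : Cfsg.PSp m F) = QuotientGroup.mk t ↔
      ∃ z ∈ Subgroup.center Spm, t = s * z := by
  rw [QuotientGroup.eq]
  exact ⟨fun h => ⟨_, h, by rw [mul_inv_cancel_left]⟩, fun ⟨z, hz, e⟩ => by
    rw [e, inv_mul_cancel_left]; exact hz⟩

/-- Elements of odd order are determined by their image. -/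
theorem eq_of_mk_eq {s t : Spm} {n : ℕ} (hn : Odd n) (hs : s ^ n = 1) (ht : t ^ n = 1)
    (h : (QuotientGroup.mk s : Cfsg.PSp m F) = QuotientGroup.mk t) : s = t := by
  obtain ⟨z, hz, rfl⟩ := (pspMk_eq_iff s t).mp h
  obtain ⟨j, rfl⟩ := hn
  have hcomm : Commute s z := Subgroup.mem_center_iff.mp hz s
  rw [hcomm.mul_pow, hs, one_mul, pow_succ, pow_mul, sq, center_sq hz, one_pow, one_mul] at ht
  rw [ht, mul_one]

theorem commute_of_mk_commute {s t : Spm} {n : ℕ} (hn : Odd n) (ht : t ^ n = 1)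
    (h : Commute (QuotientGroup.mk s : Cfsg.PSp m F) (QuotientGroup.mk t)) : Commute s t := by
  have h1 : s * t * s⁻¹ = t := by
    refine eq_of_mk_eq hn (by rw [conj_pow, ht, mul_one, mul_inv_cancel]) ht ?_
    rw [QuotientGroup.mk_mul, QuotientGroup.mk_mul, QuotientGroup.mk_inv, h.eq, mul_inv_cancel_right]
  exact mul_inv_eq_iff_eq_mul.mp h1

/-- The image of a transvection with centre `v`. -/
def IsTvOf (v : Vm) (x : Cfsg.PSp m F) : Prop :=
  v ≠ 0 ∧ ∃ c : F, c ≠ 0 ∧ QuotientGroup.mk (T v c) = x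

section Char

variable {p : ℕ} [Fact p.Prime] [CharP F p] (hp : p ≠ 2)
include hp

theorem hodd : Odd p := (Fact.out : p.Prime).odd_of_ne_two hp

theorem two_ne_zero' : (2 : F) ≠ 0 := by
  intro h
  have h1 : ((2 : ℕ) : F) = 0 := by exact_mod_cast h
  rw [CharP.cast_eq_zero_iff F p] at h1
  exact hp ((Nat.prime_dvd_prime_iff_eq Fact.out Nat.prime_two).mp h1)

theorem IsTvOf.ne_one {v : Vm} {x : Cfsg.PSp m F} (h : IsTvOf v x) : x ≠ 1 := by
  obtain ⟨hv, c, hc, rfl⟩ := h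
  intro h1
  exact T_ne_one hv hc (eq_of_mk_eq (hodd hp) (T_pow_char p v c) (one_pow p)
    (h1.trans (QuotientGroup.mk_one _).symm))

theorem IsTvOf.par {v w : Vm} {x : Cfsg.PSp m F} (h : IsTvOf v x) (h' : IsTvOf w x) :
    ∃ k : F, k ≠ 0 ∧ v = k • w := by
  obtain ⟨hv, a, ha, rfl⟩ := h
  obtain ⟨hw, b, hb, hb'⟩ := h'
  exact T_eq_T hv ha (eq_of_mk_eq (hodd hp) (T_pow_char p v a) (T_pow_char p w b) hb'.symm)

theorem commute_iff {v w : Vm} {x y : Cfsg.PSp m F} (hx : IsTvOf v x) (hy : IsTvOf w y) :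
    Commute x y ↔ B v w = 0 := by
  obtain ⟨hv, a, ha, rfl⟩ := hx
  obtain ⟨hw, b, hb, rfl⟩ := hy
  constructor
  · intro h
    have h1 := T_conj (T v a) w b
    rw [(commute_of_mk_commute (hodd hp) (T_pow_char p w b) h).eq, mul_inv_cancel_right] at h1
    obtain ⟨k, hk, hkw⟩ := T_eq_T hw hb h1
    rw [T_mulVec] at hkw
    have h2 := congrArg (fun u => B u v) hkw
    simp only [B_smul_left, B_add_left, B_self, mul_zero, add_zero] at h2
    by_cases hbv : B w v = 0
    · rw [B_swap, hbv, neg_zero]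
    have hk1 : k = 1 := mul_right_cancel₀ hbv (by rw [one_mul]; exact h2.symm)
    rw [hk1, one_smul, left_eq_add, smul_eq_zero, mul_eq_zero] at hkw
    exact absurd hkw (by rintro ((h | h) | h); exacts [ha h, hbv h, hv h])
  · intro h
    refine (Commute.map ?_ (QuotientGroup.mk' (Subgroup.center Spm)) :)
    refine mul_inv_eq_iff_eq_mul.mp ?_
    rw [T_conj, T_mulVec, B_swap, h, neg_zero, mul_zero, zero_smul, add_zero]

end Char

/-- The unipotent radical of the stabiliser of a vector. -/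
def radical (e : Vm) : Subgroup Spm where
  carrier := {s | s.1 *ᵥ e = e ∧ ∀ a, B a e = 0 → ∃ k : F, s.1 *ᵥ a = a + k • e}
  mul_mem' := by
    rintro s t ⟨hs, hs'⟩ ⟨ht, ht'⟩
    refine ⟨by rw [sp_mul_mulVec, ht, hs], fun a ha => ?_⟩
    obtain ⟨k, hk⟩ := ht' a ha
    obtain ⟨l, hl⟩ := hs' a ha
    exact ⟨l + k, by rw [sp_mul_mulVec, hk, Matrix.mulVec_add, Matrix.mulVec_smul, hs, hl]; module⟩
  one_mem' := ⟨sp_one_mulVec e, fun a _ => ⟨0, by rw [sp_one_mulVec]; module⟩⟩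
  inv_mem' := by
    rintro s ⟨hs, hs'⟩
    have he : (s⁻¹ : Spm).1 *ᵥ e = e := by conv_lhs => rw [← hs, sp_inv_mulVec]
    refine ⟨he, fun a ha => ?_⟩
    obtain ⟨k, hk⟩ := hs' a ha
    refine ⟨-k, ?_⟩
    have h1 := sp_inv_mulVec s a
    rw [hk, Matrix.mulVec_add, Matrix.mulVec_smul, he] at h1
    conv_rhs => rw [← h1]
    module

theorem radical_pow (p : ℕ) [Fact p.Prime] [CharP F p] (e : Vm) {s : Spm} (hs : s ∈ radical e) :
    s ^ p ^ 2 = 1 := by
  obtain ⟨hse, hs'⟩ := hs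
  have h3 : (s.1 - 1) ^ 3 = 0 := by
    refine Forms.matrix_ext_mulVec fun x => ?_
    rw [Matrix.zero_mulVec, pow_succ, pow_two, mul_assoc, ← Matrix.mulVec_mulVec,
      ← Matrix.mulVec_mulVec]
    simp only [Matrix.sub_mulVec, Matrix.one_mulVec]
    have hd : B (s.1 *ᵥ x - x) e = 0 := by
      rw [B_sub_left]
      conv_lhs => arg 1; arg 4; rw [← hse]
      rw [sp_B, sub_self]
    obtain ⟨k, hk⟩ := hs' _ hd
    rw [show s.1 *ᵥ (s.1 *ᵥ x - x) - (s.1 *ᵥ x - x) = k • e by rw [hk]; module,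
      Matrix.mulVec_smul, hse, sub_self]
  have h4 : (s.1 - 1) ^ p ^ 2 = 0 := by
    refine pow_eq_zero_of_le ?_ h3
    have := (Fact.out : p.Prime).two_le
    nlinarith
  rcases isEmpty_or_nonempty (Fin m ⊕ Fin m) with hE | hE
  · exact sp_ext fun x => funext fun i => (hE.false i).elim
  rw [sub_pow_char_pow_of_commute _ _ (Commute.one_right _), one_pow, sub_eq_zero] at h4
  exact Subtype.ext ((SubmonoidClass.coe_pow s _).trans h4)

theorem isPGroup_radical (p : ℕ) [Fact p.Prime] [CharP F p] (e : Vm) :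
    IsPGroup p (radical (F := F) (m := m) e) :=
  fun s => ⟨2, Subtype.ext (radical_pow p e s.2)⟩

theorem le_normalizer_radical {e : Vm} {s : Spm} (hs : s.1 *ᵥ e = e) {t : Spm}
    (ht : t ∈ radical e) : s * t * s⁻¹ ∈ radical e := by
  have he : (s⁻¹ : Spm).1 *ᵥ e = e := by conv_lhs => rw [← hs, sp_inv_mulVec]
  refine ⟨by rw [sp_mul_mulVec, sp_mul_mulVec, he, ht.1, hs], fun a ha => ?_⟩
  obtain ⟨k, hk⟩ := ht.2 ((s⁻¹ : Spm).1 *ᵥ a) (by
    conv_lhs => arg 4; rw [← he]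
    rw [sp_B, ha])
  refine ⟨k, ?_⟩
  rw [sp_mul_mulVec, sp_mul_mulVec, hk, Matrix.mulVec_add, Matrix.mulVec_smul, sp_mulVec_inv, hs]

/-- The Siegel element `x ↦ x + B(x,e) a + B(x,a) e`. -/
def siegel {e a : Vm} (ha : B a e = 0) : Spm :=
  ⟨1 + Matrix.vecMulVec a (Matrix.J (Fin m) F *ᵥ e) + Matrix.vecMulVec e (Matrix.J (Fin m) F *ᵥ a),
   Forms.mem_symplectic_iff.mpr fun x y => by
    have hmv : ∀ z, (1 + Matrix.vecMulVec a (Matrix.J (Fin m) F *ᵥ e) +
        Matrix.vecMulVec e (Matrix.J (Fin m) F *ᵥ a)) *ᵥ z = z + B z e • a + B z a • e := by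
      intro z
      rw [Matrix.add_mulVec, Matrix.add_mulVec, Matrix.one_mulVec, Matrix.vecMulVec_mulVec,
        Matrix.vecMulVec_mulVec, op_smul_eq_smul, op_smul_eq_smul, dotProduct_comm _ z,
        dotProduct_comm _ z]
      rfl
    rw [hmv, hmv]
    simp only [B_add_left, B_add_right, B_smul_left, B_smul_right, B_self, ha]
    rw [B_swap a y, B_swap e y, B_swap e a, ha]
    ring⟩

theorem siegel_mulVec {e a : Vm} (ha : B a e = 0) (z : Vm) :
    (siegel ha).1 *ᵥ z = z + B z e • a + B z a • e := by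
  show (1 + Matrix.vecMulVec a _ + Matrix.vecMulVec e _) *ᵥ z = _
  rw [Matrix.add_mulVec, Matrix.add_mulVec, Matrix.one_mulVec, Matrix.vecMulVec_mulVec,
    Matrix.vecMulVec_mulVec, op_smul_eq_smul, op_smul_eq_smul, dotProduct_comm _ z,
    dotProduct_comm _ z]
  rfl

theorem siegel_mem {e a : Vm} (ha : B a e = 0) : siegel ha ∈ radical e := by
  refine ⟨?_, fun b hb => ⟨B b a, ?_⟩⟩
  · rw [siegel_mulVec, B_self, B_swap e a, ha]
    simp
  · rw [siegel_mulVec, hb, zero_smul, add_zero]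

theorem T_mem_radical (e : Vm) (c : F) : T e c ∈ radical e :=
  ⟨by rw [T_mulVec, B_self, mul_zero, zero_smul, add_zero],
    fun a ha => ⟨0, by rw [T_mulVec, ha, mul_zero]⟩⟩

section Fin

variable [Fintype F] {p : ℕ} [Fact p.Prime] [CharP F p]

theorem exists_fixed (hm : 1 ≤ m) (Q : Sylow p Spm) :
    ∃ e : Vm, e ≠ 0 ∧ (∀ w ∈ (Q : Subgroup Spm), w.1 *ᵥ e = e) ∧
      radical e ≤ (Q : Subgroup Spm) := by
  letI : MulAction (Q : Subgroup Spm) Vm :=
    { smul := fun w x => w.1.1 *ᵥ x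
      one_smul := fun x => sp_one_mulVec x
      mul_smul := fun w w' x => sp_mul_mulVec w.1 w'.1 x }
  have hcard : p ∣ Nat.card Vm := by
    obtain ⟨n, -, hn⟩ := FiniteField.card F p
    rw [Nat.card_fun, Nat.card_eq_fintype_card (α := F), hn, Nat.card_sum, Nat.card_fin]
    exact dvd_pow (dvd_pow_self p n.pos.ne') (by omega)
  have h0 : (0 : Vm) ∈ MulAction.fixedPoints (Q : Subgroup Spm) Vm := fun w => Matrix.mulVec_zero _
  obtain ⟨e, he, hne⟩ := Q.2.exists_fixed_point_of_prime_dvd_card_of_fixed_point Vm hcard h0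
  have hfix : ∀ w ∈ (Q : Subgroup Spm), w.1 *ᵥ e = e := fun w hw => he ⟨w, hw⟩
  refine ⟨e, hne.symm, hfix, ?_⟩
  have hN : (Q : Subgroup Spm) ≤ Subgroup.normalizer (radical e : Set Spm) := by
    intro w hw
    rw [Subgroup.mem_normalizer_iff]
    intro t
    refine ⟨le_normalizer_radical (hfix w hw), fun h => ?_⟩
    have := le_normalizer_radical (hfix _ (inv_mem hw)) h
    simpa [mul_assoc] using this
  have hpq := Q.2.to_sup_of_normal_right' (isPGroup_radical p e) hN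
  exact le_sup_right.trans (Q.3 hpq le_sup_left).le

/-- Non-trivial elements central in some Sylow `p`-subgroup. -/
def CentralP (p : ℕ) (x : Cfsg.PSp m F) : Prop :=
  x ≠ 1 ∧ ∃ P : Sylow p (Cfsg.PSp m F), x ∈ (P : Subgroup _) ∧
    ∀ y ∈ (P : Subgroup (Cfsg.PSp m F)), Commute x y

theorem centralP_map (β : MulAut (Cfsg.PSp m F)) {x : Cfsg.PSp m F} (h : CentralP p x) :
    CentralP p (β x) := by
  obtain ⟨hx, P, hxP, hP⟩ := h
  refine ⟨fun h1 => hx (β.injective (h1.trans (map_one β).symm)),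
    P.mapSurjective (f := β.toMonoidHom) β.surjective, ⟨x, hxP, rfl⟩, ?_⟩
  rintro y ⟨z, hz, rfl⟩
  exact (hP z hz).map β

theorem centralP_isTv (hp : p ≠ 2) (hm : 1 ≤ m) {x : Cfsg.PSp m F} (h : CentralP p x) :
    ∃ v, IsTvOf v x := by
  obtain ⟨hx, P, hxP, hP⟩ := h
  obtain ⟨Q, rfl⟩ := Sylow.mapSurjective_surjective
    (QuotientGroup.mk'_surjective (Subgroup.center Spm)) p P
  obtain ⟨u, hu, rfl⟩ := hxP
  obtain ⟨e, he, hfix, hrad⟩ := exists_fixed hm Q
  have hcomm : ∀ w ∈ (Q : Subgroup Spm), Commute u w := by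
    intro w hw
    obtain ⟨k, hk⟩ := Q.2 ⟨w, hw⟩
    exact commute_of_mk_commute ((hodd hp).pow (n := k))
      (congrArg Subtype.val hk) (hP _ ⟨w, hw, rfl⟩)
  have hue : u.1 *ᵥ e = e := hfix u hu
  have hperp : ∀ a, B a e = 0 → u.1 *ᵥ a = a := by
    intro a ha
    set d := u.1 *ᵥ a - a with hd
    have key : ∀ z, B z e • d + B z d • e = 0 := by
      intro z
      obtain ⟨w, rfl⟩ : ∃ w, u.1 *ᵥ w = z := ⟨_, sp_mulVec_inv u z⟩
      have h1 := congrArg (fun s : Spm => s.1 *ᵥ w) (hcomm _ (hrad (siegel_mem ha))).eq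
      simp only [sp_mul_mulVec, siegel_mulVec, Matrix.mulVec_add, Matrix.mulVec_smul, hue] at h1
      have e1 : B (u.1 *ᵥ w) e = B w e := by
        conv_lhs => arg 4; rw [← hue]
        rw [sp_B]
      have hua : u.1 *ᵥ a = a + d := by rw [hd]; module
      have e2 : B w a = B (u.1 *ᵥ w) a + B (u.1 *ᵥ w) d := by
        rw [← B_add_right, ← hua, sp_B]
      rw [e2, hua, e1] at h1
      rw [e1]
      linear_combination (norm := module) h1
    obtain ⟨x₀, hx₀⟩ := exists_B_one he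
    have h1 := key x₀
    rw [hx₀, one_smul] at h1
    have hde : d = (-B x₀ d) • e := by rw [neg_smul]; exact eq_neg_of_add_eq_zero_left h1
    have hl : B x₀ d = -B x₀ d := by
      conv_lhs => rw [hde, B_smul_right, hx₀, mul_one]
    have hz : B x₀ d = 0 :=
      (mul_eq_zero.mp (show (2 : F) * B x₀ d = 0 by linear_combination hl)).resolve_left
        (two_ne_zero' hp)
    rw [hz, neg_zero, zero_smul] at hde
    exact sub_eq_zero.mp hde
  obtain ⟨x₀, hx₀⟩ := exists_B_one he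
  set d := u.1 *ᵥ x₀ - x₀ with hd
  set c := B d x₀ / B e x₀ with hc
  have hex : B e x₀ = -1 := by rw [B_swap, hx₀]
  have hde : d = c • e := by
    refine sub_eq_zero.mp (Forms.sympB_nondegenerate.1 _ fun y => ?_)
    rw [sB]
    have hy : B (y - B y e • x₀) e = 0 := by rw [B_sub_left, B_smul_left, hx₀]; ring
    have h1 : B d (y - B y e • x₀) = 0 := by
      rw [hd, B_sub_left]
      conv_lhs => arg 1; arg 4; rw [← hperp _ hy]
      rw [sp_B, sub_self]
    have h2 : B e (y - B y e • x₀) = 0 := by rw [B_swap, hy, neg_zero]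
    have h3 : ∀ w, B (d - c • e) w = B d w - c * B e w := fun w => by
      rw [B_sub_left d (c • e), B_smul_left]
    rw [show y = (y - B y e • x₀) + B y e • x₀ by module, B_add_right, h3, h3, h1, h2,
      B_smul_right, B_smul_right, hc, hex]
    ring
  have huT : u = T e c := by
    refine sp_ext fun y => ?_
    have hy : B (y - B y e • x₀) e = 0 := by rw [B_sub_left, B_smul_left, hx₀]; ring
    have h1 := hperp _ hy
    rw [Matrix.mulVec_sub, Matrix.mulVec_smul, show u.1 *ᵥ x₀ = x₀ + c • e by rw [← hde, hd]; module,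
      sub_eq_iff_eq_add] at h1
    rw [h1, T_mulVec]
    module
  refine ⟨e, he, c, ?_, by rw [← huT]; rfl⟩
  intro h0
  apply hx
  rw [huT, h0, T_zero]
  rfl

theorem isTvOf_centralP (hp : p ≠ 2) (hm : 1 ≤ m) {v : Vm} {x : Cfsg.PSp m F} (h : IsTvOf v x) :
    CentralP p x := by
  obtain ⟨hv, c, hc, hcx⟩ := h
  obtain ⟨Q₀⟩ : Nonempty (Sylow p Spm) := Sylow.nonempty
  obtain ⟨e, he, hfix, hrad⟩ := exists_fixed hm Q₀
  have hT := T_mem_radical e c
  have hbase : CentralP p (QuotientGroup.mk (T e c) : Cfsg.PSp m F) := by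
    refine ⟨IsTvOf.ne_one hp ⟨he, c, hc, rfl⟩,
      Q₀.mapSurjective (QuotientGroup.mk'_surjective _), ⟨_, hrad hT, rfl⟩, ?_⟩
    rintro _ ⟨w, hw, rfl⟩
    refine Commute.map ?_ (QuotientGroup.mk' (Subgroup.center Spm))
    refine (mul_inv_eq_iff_eq_mul.mp ?_).symm
    rw [T_conj, hfix w hw]
  obtain ⟨t, -, ht⟩ := Forms.exists_mem_transitive Forms.sympB_isAlt ⊤
    (fun z _ c _ => Subgroup.mem_top _) Forms.isForm_symp he hv
  set g := (Forms.spEquiv m F).symm t with hg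
  have hgv : g.1 *ᵥ e = v := by rw [hg, Forms.spEquiv_symm_apply]; exact ht
  have := centralP_map (MulAut.conj (QuotientGroup.mk g : Cfsg.PSp m F)) hbase
  rw [MulAut.conj_apply, ← QuotientGroup.mk_inv, ← QuotientGroup.mk_mul, ← QuotientGroup.mk_mul,
    T_conj, hgv, hcx] at this
  exact this

theorem isTv_map (hp : p ≠ 2) (hm : 1 ≤ m) (β : MulAut (Cfsg.PSp m F)) {v : Vm}
    {x : Cfsg.PSp m F} (h : IsTvOf v x) : ∃ w, IsTvOf w (β x) :=
  centralP_isTv hp hm (centralP_map β (isTvOf_centralP hp hm h))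

end Fin

end Cfsg.Agent.KnownB.Proj.Symp
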