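import Cfsg.Prelude.Def_LieTypeDatum
import Cfsg.Agent.Forms.SympMatrix
import Cfsg.Agent.KnownB.AutPSL.Twist
import Cfsg.Agent.KnownB.AutPSL.Lang

/-! Automorphisms of `PSp_{2m}(F)` induced by semilinear similarities. -/

set_option autoImplicit false

namespace Cfsg.Agent.KnownB.Proj.Symp

open Matrix

universe u

variable {m : ℕ} {F : Type u} [Field F]

local notation "Vm" => (Fin m ⊕ Fin m → F)
local notation "Mm" => Matrix (Fin m ⊕ Fin m) (Fin m ⊕ Fin m) F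
local notation "GLm" => Matrix.GeneralLinearGroup (Fin m ⊕ Fin m) F
local notation "Spm" => Matrix.symplecticGroup (Fin m) F

/-- The projection onto `PSp`. -/
abbrev pspMk : Spm →* Cfsg.PSp m F := QuotientGroup.mk' _

theorem sympForm_map (σ : F ≃+* F) (u v : Vm) :
    Cfsg.sympForm m F (⇑σ ∘ u) (⇑σ ∘ v) = σ (Cfsg.sympForm m F u v) := by
  simp [Forms.sympForm_eq, map_sum]

theorem map_mulVec (σ : F ≃+* F) (s : Mm) (u : Vm) : s.map σ *ᵥ (⇑σ ∘ u) = ⇑σ ∘ (s *ᵥ u) := by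
  funext i
  simp [Matrix.mulVec, dotProduct, map_sum]

theorem comp_symm (σ : F ≃+* F) (u : Vm) : ⇑σ ∘ (⇑σ.symm ∘ u) = u := by
  funext i; simp

theorem map_mem (σ : F ≃+* F) {s : Mm} (hs : s ∈ Spm) : s.map σ ∈ Spm := by
  rw [Forms.mem_symplectic_iff] at hs ⊢
  intro u v
  obtain ⟨u, rfl⟩ : ∃ w, ⇑σ ∘ w = u := ⟨_, comp_symm σ u⟩
  obtain ⟨v, rfl⟩ : ∃ w, ⇑σ ∘ w = v := ⟨_, comp_symm σ v⟩
  rw [map_mulVec, map_mulVec, sympForm_map, hs, sympForm_map]

/-- A field automorphism applied entrywise. -/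
def fieldSp : (F ≃+* F) →* MulAut Spm where
  toFun σ :=
    { toFun := fun s => ⟨s.1.map σ, map_mem σ s.2⟩
      invFun := fun s => ⟨s.1.map σ.symm, map_mem σ.symm s.2⟩
      left_inv := fun s => Subtype.ext (Matrix.ext fun i j => σ.symm_apply_apply _)
      right_inv := fun s => Subtype.ext (Matrix.ext fun i j => σ.apply_symm_apply _)
      map_mul' := fun s t => Subtype.ext (Matrix.map_mul (f := (σ : F →+* F))) }
  map_one' := MulEquiv.ext fun _ => Subtype.ext (Matrix.ext fun _ _ => rfl)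
  map_mul' _ _ := MulEquiv.ext fun _ => Subtype.ext (Matrix.ext fun _ _ => rfl)

/-- A multiplier. -/
def HasMult (g : GLm) (c : Fˣ) : Prop :=
  ∀ u v, Cfsg.sympForm m F ((g : Mm) *ᵥ u) ((g : Mm) *ᵥ v) = (c : F) * Cfsg.sympForm m F u v

theorem mem_GSp_iff {g : GLm} : g ∈ Cfsg.GSp m F ↔ ∃ c : Fˣ, HasMult g c := Iff.rfl

theorem conj_mem {g : GLm} (hg : g ∈ Cfsg.GSp m F) {s : Mm} (hs : s ∈ Spm) :
    (g : Mm) * s * ((g⁻¹ : GLm) : Mm) ∈ Spm := by
  obtain ⟨c, hc⟩ := hg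
  rw [Forms.mem_symplectic_iff] at hs ⊢
  intro u v
  have h1 := hc (((g⁻¹ : GLm) : Mm) *ᵥ u) (((g⁻¹ : GLm) : Mm) *ᵥ v)
  simp only [Matrix.mulVec_mulVec, Units.mul_inv, Matrix.one_mulVec] at h1
  rw [← Matrix.mulVec_mulVec, ← Matrix.mulVec_mulVec, ← Matrix.mulVec_mulVec,
    ← Matrix.mulVec_mulVec, hc, hs, ← h1]

/-- Conjugation by similarities. -/
def conjSp : Cfsg.GSp m F →* MulAut Spm where
  toFun g :=
    { toFun := fun s => ⟨(g.1 : Mm) * s.1 * ((g.1⁻¹ : GLm) : Mm), conj_mem g.2 s.2⟩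
      invFun := fun s => ⟨((g.1⁻¹ : GLm) : Mm) * s.1 * (g.1 : Mm), by
        simpa using conj_mem (inv_mem g.2) s.2⟩
      left_inv := fun s => Subtype.ext (by simp [mul_assoc])
      right_inv := fun s => Subtype.ext (by simp [mul_assoc])
      map_mul' := fun s t => Subtype.ext (by simp [mul_assoc]) }
  map_one' := MulEquiv.ext fun _ => Subtype.ext (by simp)
  map_mul' g h := MulEquiv.ext fun _ => Subtype.ext (by simp [mul_assoc])

/-- An automorphism of `Sp` induces one of `PSp`. -/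
def liftAut : MulAut Spm →* MulAut (Cfsg.PSp m F) where
  toFun e := QuotientGroup.congr _ _ e (AutPSL.map_center_eq e)
  map_one' := MulEquiv.ext fun x => by induction x using QuotientGroup.induction_on; rfl
  map_mul' _ _ := MulEquiv.ext fun x => by induction x using QuotientGroup.induction_on; rfl

variable (m F) in
/-- `GSp → Aut PSp`. -/
def A : Cfsg.GSp m F →* MulAut (Cfsg.PSp m F) := liftAut.comp conjSp

variable (m F) in
/-- Field automorphisms of `PSp`. -/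
def Fd : (F ≃+* F) →* MulAut (Cfsg.PSp m F) := liftAut.comp fieldSp

theorem autPSp_ext {β γ : MulAut (Cfsg.PSp m F)}
    (h : ∀ s : Spm, β (QuotientGroup.mk s) = γ (QuotientGroup.mk s)) : β = γ :=
  MulEquiv.ext fun x => by induction x using QuotientGroup.induction_on; exact h _

theorem mapGL_mem (σ : F ≃+* F) {g : GLm} (hg : g ∈ Cfsg.GSp m F) :
    Units.map (σ : F →+* F).mapMatrix.toMonoidHom g ∈ Cfsg.GSp m F := by
  obtain ⟨c, hc⟩ := hg
  refine ⟨Units.map (σ : F →* F) c, fun u v => ?_⟩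
  show Cfsg.sympForm m F ((g : Mm).map σ *ᵥ u) ((g : Mm).map σ *ᵥ v) = σ (c : F) * _
  obtain ⟨u, rfl⟩ : ∃ w, ⇑σ ∘ w = u := ⟨_, comp_symm σ u⟩
  obtain ⟨v, rfl⟩ : ∃ w, ⇑σ ∘ w = v := ⟨_, comp_symm σ v⟩
  rw [map_mulVec, map_mulVec, sympForm_map, hc, map_mul, sympForm_map]

/-- `σ` on similarities. -/
def mapGSp (σ : F ≃+* F) : Cfsg.GSp m F →* Cfsg.GSp m F :=
  ((Units.map (σ : F →+* F).mapMatrix.toMonoidHom).comp (Cfsg.GSp m F).subtype).codRestrict _
    fun g => mapGL_mem σ g.2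

theorem mapGSp_val (σ : F ≃+* F) (g : Cfsg.GSp m F) :
    ((mapGSp σ g).1 : Mm) = (g.1 : Mm).map σ := rfl

theorem Fd_A (σ : F ≃+* F) (g : Cfsg.GSp m F) :
    Fd m F σ * A m F g = A m F (mapGSp σ g) * Fd m F σ := by
  refine autPSp_ext fun s => congrArg QuotientGroup.mk (Subtype.ext ?_)
  show ((g.1 : Mm) * s.1 * ((g.1⁻¹ : GLm) : Mm)).map σ =
    (g.1 : Mm).map σ * s.1.map σ * _
  rw [Matrix.map_mul, Matrix.map_mul]
  rfl

theorem isInducedBySemilinear_iff {g : GLm} (hg : g ∈ Cfsg.GSp m F) (σ : F ≃+* F)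
    (β : MulAut (Cfsg.PSp m F)) :
    Cfsg.IsInducedBySemilinearPSp g σ β ↔ β = A m F ⟨g, hg⟩ * Fd m F σ := by
  constructor
  · intro h
    exact autPSp_ext fun s => h s (conjSp ⟨g, hg⟩ (fieldSp σ s)) rfl
  · rintro rfl s s' hs
    show QuotientGroup.mk (conjSp ⟨g, hg⟩ (fieldSp σ s)) = _
    exact congrArg QuotientGroup.mk (Subtype.ext hs.symm)

theorem isStdField_iff (σ : F ≃+* F) (β : MulAut (Cfsg.PSp m F)) :
    Cfsg.IsStdFieldAutPSp σ β ↔ β = Fd m F σ := by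
  constructor
  · intro h
    exact autPSp_ext fun s => h s (fieldSp σ s) rfl
  · rintro rfl s s' hs
    show QuotientGroup.mk (fieldSp σ s) = _
    exact congrArg QuotientGroup.mk (Subtype.ext hs.symm)

theorem isInnerDiagonal_iff (β : MulAut (Cfsg.PSp m F)) :
    Cfsg.IsInnerDiagonalAutPSp β ↔ β ∈ (A m F).range := by
  constructor
  · rintro ⟨g, hg, h⟩
    rw [isInducedBySemilinear_iff hg, show (RingEquiv.refl F : F ≃+* F) = 1 from rfl, map_one,
      mul_one] at h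
    exact ⟨_, h.symm⟩
  · rintro ⟨g, rfl⟩
    exact ⟨g.1, g.2, (isInducedBySemilinear_iff g.2 _ _).mpr
      (by rw [show (RingEquiv.refl F : F ≃+* F) = 1 from rfl, map_one, mul_one])⟩

theorem inndiagPSp_eq : Cfsg.inndiagPSp m F = (A m F).range := by
  refine le_antisymm ((Subgroup.closure_le _).mpr fun β hβ => (isInnerDiagonal_iff β).mp hβ)
    fun β hβ => Subgroup.subset_closure ((isInnerDiagonal_iff β).mpr hβ)

/-- A symplectic matrix as a similarity. -/
noncomputable def spInc : Spm →* Cfsg.GSp m F :=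
  (Forms.spToGL m F).codRestrict _ fun s =>
    ⟨1, fun u v => by
      rw [Units.val_one, one_mul]; exact Forms.mem_symplectic_iff.mp s.2 u v⟩

theorem spInc_val (s : Spm) : ((spInc s).1 : Mm) = s.1 := rfl

theorem conj_eq (s : Spm) : MulAut.conj (QuotientGroup.mk s : Cfsg.PSp m F) = A m F (spInc s) := by
  refine autPSp_ext fun t => ?_
  show (QuotientGroup.mk s : Cfsg.PSp m F) * QuotientGroup.mk t * (QuotientGroup.mk s)⁻¹ =
    QuotientGroup.mk (conjSp (spInc s) t)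
  rw [← QuotientGroup.mk_inv, ← QuotientGroup.mk_mul, ← QuotientGroup.mk_mul]
  refine congrArg QuotientGroup.mk (Subtype.ext ?_)
  rfl

theorem mem_Inn_iff (β : MulAut (Cfsg.PSp m F)) :
    β ∈ Cfsg.Inn (Cfsg.PSp m F) ↔ ∃ s : Spm, A m F (spInc s) = β := by
  constructor
  · rintro ⟨x, rfl⟩
    induction x using QuotientGroup.induction_on with
    | _ s => exact ⟨s, (conj_eq s).symm⟩
  · rintro ⟨s, rfl⟩
    exact ⟨QuotientGroup.mk s, conj_eq s⟩

end Cfsg.Agent.KnownB.Proj.Symp
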